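import Cfsg.Agent.H16.P.McG.D0

/-! Generated by tools/h0/tr.py. -/

set_option maxRecDepth 100000
set_option maxHeartbeats 0
set_option Elab.async false
set_option synthInstance.maxSize 2000

namespace H16.McG
open H16 H0.TR
open scoped commutatorElement

theorem inv_0_0 : allZ (invEnt (nat_lit 0)) (nat_lit 0) (nat_lit 275) = true := by decide +kernel
theorem inv_1_0 : allZ (invEnt (nat_lit 1)) (nat_lit 0) (nat_lit 275) = true := by decide +kernel
theorem inv_2_0 : allZ (invEnt (nat_lit 2)) (nat_lit 0) (nat_lit 275) = true := by decide +kernel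
theorem inv_3_0 : allZ (invEnt (nat_lit 3)) (nat_lit 0) (nat_lit 275) = true := by decide +kernel
theorem inv_4_0 : allZ (invEnt (nat_lit 4)) (nat_lit 0) (nat_lit 275) = true := by decide +kernel
theorem inv_5_0 : allZ (invEnt (nat_lit 5)) (nat_lit 0) (nat_lit 275) = true := by decide +kernel
theorem sym_0 : allZ (symEnt) (nat_lit 0) (nat_lit 275) = true := by decide +kernel
theorem pe_a : allZ2 (permEnt H15.McL.P (ivOf H15.McL.Rl) (nat_lit 275)) (nat_lit 6) (nat_lit 275) = true := by decide +kernel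
theorem rf0 : allL (fixRange H15.McL.P (nat_lit 6) (nat_lit 0) (nat_lit 275)) (H15.McL.Rl.drop (nat_lit 6)) = true := by decide +kernel
theorem v_lt : allL (ltAll 6) v_W = true := by decide +kernel
theorem v_m_a : allZ2 (matEnt (wdsP H15.McL.P v_W) v_P) (nat_lit 9) (nat_lit 275) = true := by decide +kernel
theorem vr_k : allL (fixL v_P 9 H15.McL.B) H16.U43.Rl = true := by decide +kernel
theorem vn_k : 11 < 275 ∧ ltAll 9 (List.replicate 1 0) = 0 ∧ ltAll 9 [] = 0 ∧ apW v_P (List.replicate 1 0) 11 ≠ apW v_P [] 11 := by decide +kernel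
theorem vf : fixLetters v_P 9 0 = true := by decide +kernel
theorem st_lt : allL (ltAll 6) st_W = true := by decide +kernel
theorem st_m_a : allZ2 (matEnt (wdsP H15.McL.P st_W) st_P) (nat_lit 6) (nat_lit 275) = true := by decide +kernel
theorem s_r_a : allZ2 (resEnt st_P sP sE sI (nat_lit 275) (nat_lit 164)) (nat_lit 6) (nat_lit 164) = true := by decide +kernel
theorem s_b : neL H15.McL.B (sB.map sE) = 0 ∧ ltAll 164 sB = 0 := by decide +kernel
theorem s_p : allZ2 (pcEnt sP (nat_lit 3) sB sC) 6 6 = true := by decide +kernel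
theorem s_e : allL (ltAll 6) se = true := by decide +kernel
theorem sl0_e_0 : allZ (dent sl0 (wdsP sP se) (nat_lit 164)) (nat_lit 0) (nat_lit 80) = true := by decide +kernel
theorem sl0_h : 0 < sl0.n ∧ 0 < sl0.K ∧ sl0.Pt 0 < 164 ∧ sl0.Q (sl0.Pt 0) = 0 := by decide +kernel
theorem sl1_e_0 : allZ (dent sl1 (wdsP sP se) (nat_lit 164)) (nat_lit 0) (nat_lit 8) = true := by decide +kernel
theorem sl1_h : 0 < sl1.n ∧ 0 < sl1.K ∧ sl1.Pt 0 < 164 ∧ sl1.Q (sl1.Pt 0) = 0 := by decide +kernel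
theorem s_f1 : (Nat.ble sl1.K 4 && Nat.ble (topK []) sl1.K && fixLetters (wdsP sP se) (topK []) (sl1.Pt 0)) = true := by decide +kernel
theorem s_f0 : (Nat.ble sl0.K 4 && Nat.ble (topK [sl1]) sl0.K && fixLetters (wdsP sP se) (topK [sl1]) (sl0.Pt 0)) = true := by decide +kernel
theorem s_c : chainCard [sl0, sl1] = 3 ^ 6 ∧ ¬ 3 ^ (6 + 1) ∣ 898128000 := by decide +kernel
theorem sf : fixLetters st_P 6 0 = true ∧ fixLetters st_P 6 11 = true := by decide +kernel
theorem l0_e_0 : allZ (dent l0 H15.McL.P (nat_lit 275)) (nat_lit 0) (nat_lit 274) = true := by decide +kernel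
theorem l0_h : 0 < l0.n ∧ 0 < l0.K ∧ l0.Pt 0 < 275 ∧ l0.Q (l0.Pt 0) = 0 := by decide +kernel
theorem l0_c : l0.n = 275 ∧ l0.K = 6 ∧ l0.Pt 0 = 0 ∧ ∀ j < 275, True → l0.Q j < 275 ∧ l0.Pt (l0.Q j) = j := by decide +kernel
theorem lp_e_0 : allZ (dent lp v_P (nat_lit 275)) (nat_lit 0) (nat_lit 111) = true := by decide +kernel
theorem lp_h : 0 < lp.n ∧ 0 < lp.K ∧ lp.Pt 0 < 275 ∧ lp.Q (lp.Pt 0) = 0 := by decide +kernel
theorem lp_c : lp.n = 112 ∧ lp.K = 9 ∧ lp.Pt 0 = 11 ∧ ∀ j < 275, adj 0 j = true → lp.Q j < 112 ∧ lp.Pt (lp.Q j) = j := by decide +kernel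
theorem lq_e_0 : allZ (dent lq v_P (nat_lit 275)) (nat_lit 0) (nat_lit 161) = true := by decide +kernel
theorem lq_h : 0 < lq.n ∧ 0 < lq.K ∧ lq.Pt 0 < 275 ∧ lq.Q (lq.Pt 0) = 0 := by decide +kernel
theorem lq_c : lq.n = 162 ∧ lq.K = 9 ∧ lq.Pt 0 = 167 ∧ ∀ j < 275, adj 0 j = false ∧ j ≠ 0 → lq.Q j < 162 ∧ lq.Pt (lq.Q j) = j := by decide +kernel
theorem l81_e_0 : allZ (dent l81 st_P (nat_lit 275)) (nat_lit 0) (nat_lit 80) = true := by decide +kernel
theorem l81_h : 0 < l81.n ∧ 0 < l81.K ∧ l81.Pt 0 < 275 ∧ l81.Q (l81.Pt 0) = 0 := by decide +kernel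
theorem l81_c : l81.n = 81 ∧ l81.K = 6 ∧ l81.Pt 0 = 16 ∧ ∀ j < 275, adj 0 j = true ∧ adj 11 j = false ∧ j ≠ 11 → l81.Q j < 81 ∧ l81.Pt (l81.Q j) = j := by decide +kernel
theorem l27_e_0 : allZ (dent l27 st_P (nat_lit 275)) (nat_lit 0) (nat_lit 26) = true := by decide +kernel
theorem l27_h : 0 < l27.n ∧ 0 < l27.K ∧ l27.Pt 0 < 275 ∧ l27.Q (l27.Pt 0) = 0 := by decide +kernel
theorem l27_c : l27.n = 27 ∧ l27.K = 6 ∧ l27.Pt 0 = 22 ∧ ∀ j < 275, adj 0 j = true ∧ adj 11 j = true ∧ j ∉ [11, 91, 160, 219] → l27.Q j < 27 ∧ l27.Pt (l27.Q j) = j := by decide +kernel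
theorem k_lt : allL (ltAll 6) k_W = true := by decide +kernel
theorem k_m_a : allZ2 (matEnt (wdsP H15.McL.P k_W) k_P) (nat_lit 2) (nat_lit 275) = true := by decide +kernel
theorem kf : fixLetters k_P 2 0 = true ∧ fixLetters k_P 2 11 = true := by decide +kernel
theorem l30_e_0 : allZ (dent l30 k_P (nat_lit 275)) (nat_lit 0) (nat_lit 29) = true := by decide +kernel
theorem l30_h : 0 < l30.n ∧ 0 < l30.K ∧ l30.Pt 0 < 275 ∧ l30.Q (l30.Pt 0) = 0 := by decide +kernel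
theorem l30_c : l30.n = 30 ∧ l30.K = 2 ∧ l30.Pt 0 = 22 ∧ ∀ j < 275, adj 0 j = true ∧ adj 11 j = true → l30.Q j < 30 ∧ l30.Pt (l30.Q j) = j := by decide +kernel
theorem n_lt : allL (ltAll 6) n_W = true := by decide +kernel
theorem n_m_a : allZ2 (matEnt (wdsP H15.McL.P n_W) n_P) (nat_lit 2) (nat_lit 275) = true := by decide +kernel
theorem nf : fixLetters n_P 2 0 = true ∧ fixLetters n_P 2 167 = true := by decide +kernel
theorem l105_e_0 : allZ (dent l105 n_P (nat_lit 275)) (nat_lit 0) (nat_lit 104) = true := by decide +kernel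
theorem l105_h : 0 < l105.n ∧ 0 < l105.K ∧ l105.Pt 0 < 275 ∧ l105.Q (l105.Pt 0) = 0 := by decide +kernel
theorem l105_c : l105.n = 105 ∧ l105.K = 2 ∧ l105.Pt 0 = 1 ∧ ∀ j < 275, (adj 0 j = false ∧ j ≠ 0) ∧ adj 167 j = false ∧ j ≠ 167 → l105.Q j < 105 ∧ l105.Pt (l105.Q j) = j := by decide +kernel
theorem x_lt : allL (ltAll 6) x_W = true := by decide +kernel
theorem x_m_a : allZ2 (matEnt (wdsP H15.McL.P x_W) x_P) (nat_lit 1) (nat_lit 275) = true := by decide +kernel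
theorem x7_k : fixL x_P 1 H15.McL.B (List.replicate 7 0) = 0 := by decide +kernel
theorem xf : fixLetters x_P 1 0 = true := by decide +kernel
theorem obc : (∀ j < 16, rep j < 275) ∧ ∀ j < 275, adj 0 j = true → ob j < 16 ∧ apW x_P (List.replicate (ex j) 0) (rep (ob j)) = j := by decide +kernel
theorem llc : LL.map (fun l => (ob l.1, ob l.2.1, ob l.2.2.1, ob l.2.2.2)) = LO ∧ ∀ l ∈ LL, (∀ y ∈ [l.1, l.2.1, l.2.2.1, l.2.2.2], y < 275 ∧ adj 0 y = true) ∧
    [l.1, l.2.1, l.2.2.1, l.2.2.2].Pairwise (adj · · = true) := by decide +kernel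
theorem hem_0 : allZ (hemEnt) (nat_lit 0) (nat_lit 49984) = true := by decide +kernel
theorem hem_1 : allZ (hemEnt) (nat_lit 49984) (nat_lit 15552) = true := by decide +kernel
theorem w0_lt : allL (ltAll 6) w0_W = true := by decide +kernel
theorem w0_m_a : allZ2 (matEnt (wdsP H15.McL.P w0_W) w0_P) (nat_lit 9) (nat_lit 275) = true := by decide +kernel
theorem w0r_k : allL (fixL w0_P 9 H15.McL.B) H16.U43.Rl = true := by decide +kernel
theorem w0n_k : 11 < 275 ∧ ltAll 9 (List.replicate 1 0) = 0 ∧ ltAll 9 [] = 0 ∧ apW w0_P (List.replicate 1 0) 11 ≠ apW w0_P [] 11 := by decide +kernel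
theorem w0f : fixLetters w0_P 9 0 = true := by decide +kernel
theorem w0c : ∀ j < 275, adj 0 j = true → (tau 0 j < 275 ∧ adj 0 (tau 0 j) = true ∧ (adj 167 j = true ↔ bit 29400 (ob (tau 0 j)) = 1)) ∧
    ∀ k < 9, tau 0 (v_P k j) = w0_P k (tau 0 j) := by decide +kernel
theorem w1_lt : allL (ltAll 6) w1_W = true := by decide +kernel
theorem w1_m_a : allZ2 (matEnt (wdsP H15.McL.P w1_W) w1_P) (nat_lit 9) (nat_lit 275) = true := by decide +kernel
theorem w1r_k : allL (fixL w1_P 9 H15.McL.B) H16.U43.Rl = true := by decide +kernel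
theorem w1n_k : 11 < 275 ∧ ltAll 9 (List.replicate 1 0) = 0 ∧ ltAll 9 [] = 0 ∧ apW w1_P (List.replicate 1 0) 11 ≠ apW w1_P [] 11 := by decide +kernel
theorem w1f : fixLetters w1_P 9 0 = true := by decide +kernel
theorem w1c : ∀ j < 275, adj 0 j = true → (tau 1 j < 275 ∧ adj 0 (tau 1 j) = true ∧ (adj 167 j = true ↔ bit 32020 (ob (tau 1 j)) = 1)) ∧
    ∀ k < 9, tau 1 (v_P k j) = w1_P k (tau 1 j) := by decide +kernel
theorem w2_lt : allL (ltAll 6) w2_W = true := by decide +kernel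
theorem w2_m_a : allZ2 (matEnt (wdsP H15.McL.P w2_W) w2_P) (nat_lit 9) (nat_lit 275) = true := by decide +kernel
theorem w2r_k : allL (fixL w2_P 9 H15.McL.B) H16.U43.Rl = true := by decide +kernel
theorem w2n_k : 11 < 275 ∧ ltAll 9 (List.replicate 1 0) = 0 ∧ ltAll 9 [] = 0 ∧ apW w2_P (List.replicate 1 0) 11 ≠ apW w2_P [] 11 := by decide +kernel
theorem w2f : fixLetters w2_P 9 0 = true := by decide +kernel
theorem w2c : ∀ j < 275, adj 0 j = true → (tau 2 j < 275 ∧ adj 0 (tau 2 j) = true ∧ (adj 167 j = true ↔ bit 33515 (ob (tau 2 j)) = 1)) ∧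
    ∀ k < 9, tau 2 (v_P k j) = w2_P k (tau 2 j) := by decide +kernel
theorem w3_lt : allL (ltAll 6) w3_W = true := by decide +kernel
theorem w3_m_a : allZ2 (matEnt (wdsP H15.McL.P w3_W) w3_P) (nat_lit 9) (nat_lit 275) = true := by decide +kernel
theorem w3r_k : allL (fixL w3_P 9 H15.McL.B) H16.U43.Rl = true := by decide +kernel
theorem w3n_k : 11 < 275 ∧ ltAll 9 (List.replicate 1 0) = 0 ∧ ltAll 9 [] = 0 ∧ apW w3_P (List.replicate 1 0) 11 ≠ apW w3_P [] 11 := by decide +kernel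
theorem w3f : fixLetters w3_P 9 0 = true := by decide +kernel
theorem w3c : ∀ j < 275, adj 0 j = true → (tau 3 j < 275 ∧ adj 0 (tau 3 j) = true ∧ (adj 167 j = true ↔ bit 36135 (ob (tau 3 j)) = 1)) ∧
    ∀ k < 9, tau 3 (v_P k j) = w3_P k (tau 3 j) := by decide +kernel
theorem qc : ∀ j < 275, adj 0 j = false → (∀ y < 275, adj 0 y = true → adj j y = adj 167 y) → j = 167 := by decide +kernel
theorem ch0 : chain F0 N0 = true ∧ F1 = N0.reverse ++ F0 := by decide +kernel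
theorem ch1 : chain F1 N1 = true ∧ F2 = N1.reverse ++ F1 := by decide +kernel
theorem ch2 : chain F2 N2 = true ∧ F3 = N2.reverse ++ F2 := by decide +kernel

end H16.McG
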